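import Mathlib.AlgebraicGeometry.Morphisms.FlatMono
import Mathlib.AlgebraicGeometry.Artinian
import Mathlib.AlgebraicGeometry.Limits

/-! Monomorphisms into disjoint unions of spectra of fields. -/

universe u

open CategoryTheory CategoryTheory.Limits AlgebraicGeometry

namespace Groth.Agent.MonoField

variable {ι : Type u} (k : ι → Type u) [∀ i, Field (k i)]

lemma isField_stalk_Spec_field {K : Type u} [Field K] (y : ↥(Spec (CommRingCat.of K))) :
    IsField ((Spec (CommRingCat.of K)).presheaf.stalk y) := by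
  apply isField_stalk_of_closure_mem_irreducibleComponents
  have : Subsingleton ↥(Spec (CommRingCat.of K)) := inferInstanceAs (Subsingleton (PrimeSpectrum K))
  have h : closure ({y} : Set ↥(Spec (CommRingCat.of K))) = Set.univ :=
    Set.eq_univ_of_forall fun z => subset_closure (Subsingleton.elim z y)
  rw [h]
  refine ⟨?_, fun T _ _ => fun _ _ => trivial⟩
  have : IrreducibleSpace ↥(Spec (CommRingCat.of K)) := inferInstanceAs (IrreducibleSpace (PrimeSpectrum K))
  exact IrreducibleSpace.isIrreducible_univ _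

theorem isIso_of_mono_of_surjective {Y : Scheme.{u}}
    (h : Y ⟶ ∐ fun i => Spec (CommRingCat.of (k i))) [Mono h] [Surjective h] : IsIso h := by
  let T := ∐ fun i => Spec (CommRingCat.of (k i))
  have hd : DiscreteTopology ↥T := (sigmaMk fun i => Spec (CommRingCat.of (k i))).discreteTopology
  have : QuasiCompact h := by
    refine ⟨fun U _ hc => ?_⟩
    have hf : (U : Set ↥T).Finite := isCompact_iff_finite.mp hc
    exact (hf.preimage h.injective.injOn).isCompact
  have : Flat h := by
    refine Flat.of_stalkMap _ fun x => ?_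
    obtain ⟨⟨i, y⟩, e⟩ := (sigmaMk fun i => Spec (CommRingCat.of (k i))).surjective (h x)
    rw [sigmaMk_mk] at e
    have hF : IsField (T.presheaf.stalk (h x)) := by
      rw [← e]
      exact (asIso ((Sigma.ι (fun i => Spec (CommRingCat.of (k i))) i).stalkMap y)).commRingCatIsoToRingEquiv.isField
        (isField_stalk_Spec_field y)
    letI := hF.toField
    letI := (h.stalkMap x).hom.toAlgebra
    show Module.Flat (T.presheaf.stalk (h x)) (Y.presheaf.stalk x)
    infer_instance
  exact Flat.isIso_of_surjective_of_mono h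

theorem exists_sigma {Y : Scheme.{u}}
    (f : Y ⟶ ∐ fun i => Spec (CommRingCat.of (k i))) [Mono f] :
    ∃ (J : Set ι) (e : Y ≅ ∐ fun j : J => Spec (CommRingCat.of (k j.1))),
      e.hom ≫ Sigma.desc (fun j : J => Sigma.ι (fun i => Spec (CommRingCat.of (k i))) j.1) = f := by
  classical
  let X : ι → Scheme.{u} := fun i => Spec (CommRingCat.of (k i))
  let J : Set ι := {i | ∃ (y : Y) (z : X i), Sigma.ι X i z = f y}
  let g : (∐ fun j : J => X j.1) ⟶ ∐ X := Sigma.desc (fun j : J => Sigma.ι X j.1)
  have hrange : ∀ i, ∀ z z' : X i, z = z' := fun i z z' =>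
    Subsingleton.elim (α := PrimeSpectrum (k i)) z z'
  have hg : IsOpenImmersion g := by
    refine isOpenImmersion_sigmaDesc _ _ fun a b hab => Set.disjoint_iff_forall_ne.mpr ?_
    rintro _ ⟨z, rfl⟩ _ ⟨w, rfl⟩ e
    have := (sigmaMk X).injective (a₁ := ⟨a.1, z⟩) (a₂ := ⟨b.1, w⟩) (by simpa [sigmaMk_mk] using e)
    exact hab (Subtype.ext (Sigma.mk.inj_iff.mp this).1)
  have hsub : Set.range f ⊆ Set.range g := by
    rintro _ ⟨y, rfl⟩
    obtain ⟨⟨i, z⟩, e⟩ := (sigmaMk X).surjective (f y)
    rw [sigmaMk_mk] at e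
    refine ⟨Sigma.ι (fun j : J => X j.1) ⟨i, y, z, e⟩ z, ?_⟩
    rw [← Scheme.Hom.comp_apply, Sigma.ι_desc]
    exact e
  let h := IsOpenImmersion.lift g f hsub
  have hfac : h ≫ g = f := IsOpenImmersion.lift_fac _ _ hsub
  have : Mono h := mono_of_mono_fac hfac
  have : Surjective h := ⟨fun t => by
    obtain ⟨⟨⟨i, y, z, e⟩, w⟩, rfl⟩ := (sigmaMk fun j : J => X j.1).surjective t
    refine ⟨y, g.isOpenEmbedding.injective ?_⟩
    rw [sigmaMk_mk, ← Scheme.Hom.comp_apply, hfac, ← Scheme.Hom.comp_apply, Sigma.ι_desc]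
    exact e.symm.trans (congrArg _ (hrange i z w))⟩
  have := isIso_of_mono_of_surjective (fun j : J => k j.1) h
  exact ⟨J, asIso h, hfac⟩

end Groth.Agent.MonoField
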